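import Mathlib

set_option autoImplicit false
universe u
set_option linter.style.haveILetI false
open Polynomial TensorProduct

namespace Groth.Agent.EGA2Alg

/-- Integrality of the coefficients of the characteristic polynomial of an endomorphism of a finite
module, after base change to a field. -/
theorem charpoly_coeff_isIntegral {A : Type u} [CommRing A] (K : Type u) [Field K]
    [Algebra A K] {E : Type u} [AddCommGroup E] [Module A E] [Module.Finite A E]
    (u : E →ₗ[A] E) (i : ℕ) : IsIntegral A (((u.baseChange K).charpoly).coeff i) := by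
  obtain ⟨p, hp, hpu⟩ := LinearMap.exists_monic_and_aeval_eq_zero A u
  let L := AlgebraicClosure K
  let v : Module.End K (K ⊗[A] E) := u.baseChange K
  let w : Module.End L (L ⊗[K] (K ⊗[A] E)) := v.baseChange L
  have hv : aeval v (p.map (algebraMap A K)) = 0 := by
    rw [aeval_map_algebraMap, show v = Module.End.baseChangeHom A K E u from rfl,
      aeval_algHom_apply, hpu, map_zero]
  have hw : aeval w ((p.map (algebraMap A K)).map (algebraMap K L)) = 0 := by
    rw [aeval_map_algebraMap, show w = Module.End.baseChangeHom K L _ v from rfl,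
      aeval_algHom_apply, hv, map_zero]
  have hchar : w.charpoly = v.charpoly.map (algebraMap K L) := LinearMap.charpoly_baseChange v L
  have hroot : ∀ a ∈ w.charpoly.roots, a ∈ (algebraMap (integralClosure A L) L).range := by
    intro a ha
    have hroot' : w.charpoly.IsRoot a := isRoot_of_mem_roots ha
    obtain ⟨x, hx⟩ := ((Module.End.hasEigenvalue_iff_isRoot_charpoly w a).2 hroot').exists_hasEigenvector
    have h := Module.End.aeval_apply_of_hasEigenvector hx
      (p := (p.map (algebraMap A K)).map (algebraMap K L))
    rw [hw, LinearMap.zero_apply, eq_comm, smul_eq_zero, or_iff_left hx.2, Polynomial.map_map,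
      ← IsScalarTower.algebraMap_eq, eval_map] at h
    exact ⟨⟨a, ⟨p, hp, h⟩⟩, rfl⟩
  have hlift := (IsAlgClosed.splits w.charpoly).mem_lift_of_roots_mem_range
    (LinearMap.charpoly_monic w) (algebraMap (integralClosure A L) L) hroot
  obtain ⟨c, hc⟩ := (lifts_iff_coeff_lifts _).1 hlift i
  rw [hchar, coeff_map] at hc
  have : IsIntegral A (algebraMap K L (v.charpoly.coeff i)) := hc ▸ c.2
  exact (isIntegral_algebraMap_iff (algebraMap K L).injective).1 this

theorem det_isIntegral {A : Type u} [CommRing A] (K : Type u) [Field K]
    [Algebra A K] {E : Type u} [AddCommGroup E] [Module A E] [Module.Finite A E]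
    (u : E →ₗ[A] E) : IsIntegral A (LinearMap.det (u.baseChange K)) := by
  rw [LinearMap.det_eq_sign_charpoly_coeff]
  exact ((isIntegral_one (R := A)).neg.pow _).mul (charpoly_coeff_isIntegral K u 0)

theorem isUnit_of_det {A : Type u} [CommRing A] (K : Type u) [Field K]
    [Algebra A K] [FaithfulSMul A K] {E : Type u} [AddCommGroup E] [Module A E] [Module.Finite A E]
    (u : E →ₗ[A] E) (a : A) (ha : algebraMap A K a = LinearMap.det (u.baseChange K))
    (hu : Function.Bijective u) : IsUnit a := by
  let e := LinearEquiv.ofBijective u hu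
  let C := integralClosure A K
  have h1 : LinearMap.det (u.baseChange K) * LinearMap.det (e.symm.toLinearMap.baseChange K) = 1 := by
    rw [← LinearMap.det_comp, ← LinearMap.baseChange_comp,
      show u ∘ₗ e.symm.toLinearMap = LinearMap.id from LinearMap.ext fun x => e.apply_symm_apply x,
      LinearMap.baseChange_id, LinearMap.det_id]
  have : IsUnit (algebraMap A C a) := by
    refine IsUnit.of_mul_eq_one (⟨_, det_isIntegral K e.symm.toLinearMap⟩ : C) (Subtype.ext ?_)
    change algebraMap A K a * _ = 1
    rw [ha]; exact h1
  haveI : FaithfulSMul A C := (faithfulSMul_iff_algebraMap_injective A C).2 fun x y h =>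
    FaithfulSMul.algebraMap_injective A K (congrArg Subtype.val h)
  haveI : Algebra.IsIntegral A C := IsIntegralClosure.isIntegral_algebra A K
  exact IsUnit.of_map (algebraMap A C) a ‹_›

theorem bijective_of_isUnit_det {A : Type u} [CommRing A] [IsDomain A] (K : Type u) [Field K]
    [Algebra A K] [IsFractionRing A K] {E : Type u} [AddCommGroup E] [Module A E] [Module.Finite A E]
    [Module.IsTorsionFree A E]
    (u : E →ₗ[A] E) (hcoeff : ∀ i : ℕ, ((u.baseChange K).charpoly).coeff i ∈ (algebraMap A K).range)
    (a : A) (ha : algebraMap A K a = LinearMap.det (u.baseChange K)) (hunit : IsUnit a) :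
    Function.Bijective u := by
  let v : Module.End K (K ⊗[A] E) := u.baseChange K
  have hιinj : Function.Injective (TensorProduct.mk A K E 1) := by
    rw [injective_iff_map_eq_zero]
    intro x hx
    obtain ⟨s, hs⟩ := (IsLocalizedModule.eq_zero_iff (nonZeroDivisors A) _).1 hx
    exact (smul_eq_zero.1 hs).resolve_left (nonZeroDivisors.coe_ne_zero s)
  obtain ⟨q, hq⟩ : ∃ q : A[X], q.map (algebraMap A K) = v.charpoly := by
    have := (lifts_iff_coeff_lifts v.charpoly).2 hcoeff
    exact this
  have hqu : aeval u q = 0 := by
    ext x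
    apply hιinj
    have h : aeval v (q.map (algebraMap A K)) = 0 := by rw [hq]; exact LinearMap.aeval_self_charpoly v
    rw [aeval_map_algebraMap, show v = Module.End.baseChangeHom A K E u from rfl,
      aeval_algHom_apply] at h
    have := LinearMap.congr_fun h ((1 : K) ⊗ₜ[A] x)
    exact this.trans (map_zero _).symm
  have hq0 : IsUnit (q.coeff 0) := by
    have e : algebraMap A K (q.coeff 0) = v.charpoly.coeff 0 := by rw [← hq, coeff_map]
    have hd := LinearMap.det_eq_sign_charpoly_coeff v
    rw [← e, show LinearMap.det v = algebraMap A K a from ha.symm,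
      show ((-1 : K)) = algebraMap A K (-1) by simp, ← map_pow, ← map_mul] at hd
    have := IsFractionRing.injective A K hd
    rw [this] at hunit
    exact isUnit_of_mul_isUnit_right hunit
  have hdiv : u * aeval u q.divX = algebraMap A (Module.End A E) (-q.coeff 0) := by
    have := congrArg (aeval u) (X_mul_divX_add q)
    rw [hqu, map_add, map_mul, aeval_X, aeval_C] at this
    rw [map_neg]; exact eq_neg_of_add_eq_zero_left this
  have hdiv' : aeval u q.divX * u = algebraMap A (Module.End A E) (-q.coeff 0) := by
    rw [← hdiv]
    have h := congrArg (aeval u) (mul_comm q.divX X)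
    simpa using h
  have hu : IsUnit (u : Module.End A E) := by
    obtain ⟨c, hc⟩ := hq0.neg
    refine ⟨⟨u, aeval u q.divX * algebraMap A _ ↑c⁻¹, ?_, ?_⟩, rfl⟩
    · rw [← mul_assoc, hdiv, ← map_mul, ← hc, Units.mul_inv, map_one]
    · rw [mul_assoc, Algebra.commutes, ← mul_assoc, hdiv', ← map_mul, ← hc, Units.mul_inv, map_one]
  exact (Module.End.isUnit_iff _).1 hu

end Groth.Agent.EGA2Alg
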